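import Groth.Agent.AssPtX.Noeth
import Groth.Agent.QCoh.DevissageSum
import Groth.Agent.QCoh.ClosedPush
import Groth.Agent.QCoh.Qcqs
import Mathlib.RingTheory.Support
import Mathlib.CategoryTheory.Subobject.Basic

/-!
# The maximal coherent subsheaf with nowhere dense support
-/

set_option autoImplicit false
set_option backward.isDefEq.respectTransparency false
set_option backward.isDefEq.respectTransparency.types false
set_option linter.style.haveILetI false

universe u

open CategoryTheory CategoryTheory.Limits AlgebraicGeometry TopologicalSpace Opposite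

noncomputable section

namespace Groth.Agent.MaxND16

open Groth.Agent

variable {X : Scheme.{u}} (F : X.Modules)

/-- A maximal point of the support. -/
def Ma (z : X) : Prop := z ∈ CohB1.support F ∧ ∀ y ∈ CohB1.support F, y ⤳ z → y = z

/-- The closure of the non-maximal associated points. -/
def emb : Set X := {y | ∃ z, Curv2.IsWeakAssPoint F z ∧ ¬ Ma F z ∧ z ⤳ y}

variable {F}

theorem notMem_emb_of_ma {η : X} (h : Ma F η) : η ∉ emb F := by
  rintro ⟨z, hz, hzn, hzη⟩
  exact hzn (h.2 z (AssPtX.mem_support_of_isWeakAssPoint hz) hzη ▸ h)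

variable [IsLocallyNoetherian X] (hF : Coh.IsCoh F)

include hF in
theorem isClosed_emb : IsClosed (emb F) := by
  rw [← isOpen_compl_iff, isOpen_iff_forall_mem_open]
  intro y hy
  obtain ⟨V, hV, hyV, -⟩ := exists_isAffineOpen_mem_and_subset (x := y) (U := ⊤) trivial
  let S := {z : X | z ∈ V ∧ Curv2.IsWeakAssPoint F z ∧ ¬ Ma F z}
  have hS : S.Finite := (AssPtX.finite_assPoints hF hV.isCompact).subset
    fun z hz => ⟨hz.1, AssPtX.isAssPoint_iff.2 hz.2.1⟩
  refine ⟨(V : Set X) \ ⋃ z ∈ S, closure {z}, ?_, V.2.sdiff (hS.isClosed_biUnion fun z _ => isClosed_closure),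
    hyV, ?_⟩
  · rintro w ⟨hwV, hw⟩ ⟨z, hz, hzn, hzw⟩
    exact hw (Set.mem_iUnion₂.2 ⟨z, ⟨hzw.mem_open V.2 hwV, hz, hzn⟩, hzw.mem_closure⟩)
  · intro h
    obtain ⟨z, hz, hzy⟩ := Set.mem_iUnion₂.1 h
    exact hy ⟨z, hz.2.1, hz.2.2, specializes_iff_mem_closure.2 hzy⟩

include hF in
theorem exists_ma {y : X} (hy : y ∈ CohB1.support F) : ∃ η, Ma F η ∧ η ⤳ y := by
  obtain ⟨V, hV, hyV, -⟩ := exists_isAffineOpen_mem_and_subset (x := y) (U := ⊤) trivial
  haveI := QCoh.finite_sections hF hV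
  have hs := (QCoh.mem_moduleSupport_iff hF.1 hV hyV).2 hy
  rw [Module.support_eq_zeroLocus, PrimeSpectrum.mem_zeroLocus] at hs
  obtain ⟨P, hP, hPle⟩ := Ideal.exists_minimalPrimes_le
    (show Module.annihilator Γ(X, V) Γ(F, V) ≤ (hV.primeIdealOf ⟨y, hyV⟩).asIdeal from hs)
  have hPp : P.IsPrime := hP.1.1
  obtain ⟨η, hηV, hη⟩ := QCoh.exists_point hV ⟨P, hPp⟩
  refine ⟨η, ⟨(QCoh.mem_moduleSupport_iff hF.1 hV hηV).1 (by
    rw [hη, Module.support_eq_zeroLocus, PrimeSpectrum.mem_zeroLocus]; exact hP.1.2), fun z hz hzη => ?_⟩,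
    (AssPtX.primeIdealOf_le_iff hV hηV hyV).1 (by rw [hη]; exact hPle)⟩
  have hzV : z ∈ V := hzη.mem_open V.2 hηV
  have h1 := (QCoh.mem_moduleSupport_iff hF.1 hV hzV).2 hz
  rw [Module.support_eq_zeroLocus, PrimeSpectrum.mem_zeroLocus] at h1
  have h2 := (AssPtX.primeIdealOf_le_iff hV hzV hηV).2 hzη
  rw [hη] at h2
  have h3 : hV.primeIdealOf ⟨η, hηV⟩ = ⟨P, hPp⟩ := hη
  refine ((AssPtX.primeIdealOf_le_iff hV hηV hzV).1 ?_).antisymm hzη |>.eq.symm
  rw [h3]
  exact hP.2 ⟨(hV.primeIdealOf ⟨z, hzV⟩).isPrime, h1⟩ h2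

/-- The open complement. -/
abbrev good : X.Opens := ⟨(emb F)ᶜ, (isClosed_emb hF).isOpen_compl⟩

/-- The unit to the direct image from the good open. -/
abbrev η : F ⟶ (Scheme.Modules.pushforward (good hF).ι).obj (F.restrict (good hF).ι) :=
  (Scheme.Modules.restrictAdjunction (good hF).ι).unit.app F

theorem isQCoh_target : Coh.IsQCoh ((Scheme.Modules.pushforward (good hF).ι).obj (F.restrict (good hF).ι)) :=
  QCoh.isQCoh_pushforward _ (QCoh.isQCoh_restrict _ hF.1)

theorem app_eq_zero_iff (V : X.Opens) (s : Γ(F, V)) :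
    (η hF).app V s = 0 ↔ ∀ (y : X) (hy : y ∈ V), y ∈ good hF → F.presheaf.germ V y hy s = 0 := by
  let W := (good hF).ι ''ᵁ ((good hF).ι ⁻¹ᵁ V)
  let r : Γ(F, W) := F.presheaf.map (homOfLE ((good hF).ι.image_preimage_le V)).op s
  show r = 0 ↔ _
  constructor
  · intro h y hy hyg
    have hyW : y ∈ W := ⟨⟨y, hyg⟩, hy, rfl⟩
    rw [← F.presheaf.germ_res_apply (homOfLE ((good hF).ι.image_preimage_le V)) y hyW s]
    exact (congrArg _ h).trans (map_zero _)
  · intro h
    refine AssPtX.eq_zero_of_germ hF.1 r fun y hy _ => ?_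
    refine (F.presheaf.germ_res_apply (homOfLE ((good hF).ι.image_preimage_le V)) y hy s).trans (h y _ ?_)
    obtain ⟨w, -, rfl⟩ := hy
    exact w.2

/-- The subsheaf. -/
abbrev K : X.Modules := kernel (η hF)

theorem isCoh_K : Coh.IsCoh (K hF) :=
  QCoh.isCoh_of_mono (kernel.ι _) hF (QCoh.isQCoh_kernel hF.1 (isQCoh_target hF) _)

theorem germ_K {V : X.Opens} (t : Γ(K hF, V)) {y : X} (hy : y ∈ V) (hyg : y ∈ good hF) :
    F.presheaf.germ V y hy ((kernel.ι (η hF)).app V t) = 0 :=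
  (app_eq_zero_iff hF V _).1 (congr(($(kernel.condition (η hF))).app V t)) y hy hyg

theorem notMem_support_K {y : X} (hyg : y ∈ good hF) : y ∉ CohB1.support (K hF) := by
  intro hy
  refine hy (subsingleton_of_forall_eq 0 fun a => ?_)
  obtain ⟨W, hyW, t, rfl⟩ := TopCat.Presheaf.exists_germ_eq (K hF).presheaf a
  have h0 : (kernel.ι (η hF)).app (W ⊓ good hF) ((K hF).presheaf.map (homOfLE (inf_le_left : W ⊓ good hF ≤ W)).op t) = 0 :=
    AssPtX.eq_zero_of_germ hF.1 _ fun z hz _ => germ_K hF _ hz hz.2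
  have h1 : (K hF).presheaf.map (homOfLE (inf_le_left : W ⊓ good hF ≤ W)).op t = 0 :=
    QCoh.app_injective (kernel.ι (η hF)) _ (h0.trans (map_zero _).symm)
  rw [← (K hF).presheaf.germ_res_apply (homOfLE (inf_le_left : W ⊓ good hF ≤ W)) y ⟨hyW, hyg⟩ t, h1, map_zero]

theorem nowhereDense_K (U : X.Opens) (h : (U : Set X) ∩ CohB1.support F ⊆ CohB1.support (K hF)) :
    (U : Set X) ∩ CohB1.support F = ∅ := by
  refine Set.eq_empty_iff_forall_notMem.2 fun y ⟨hyU, hy⟩ => ?_
  obtain ⟨η', hη, hηy⟩ := exists_ma hF hy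
  exact notMem_support_K hF (notMem_emb_of_ma hη) (h ⟨hηy.mem_open U.2 hyU, hη.1⟩)

theorem shortExact : (ShortComplex.mk (kernel.ι (η hF)) (cokernel.π (kernel.ι (η hF))) (cokernel.condition _)).ShortExact where
  exact := ShortComplex.exact_cokernel _
  mono_f := inferInstance
  epi_g := inferInstance

/-- Quotient by the subsheaf. -/
abbrev Q : X.Modules := cokernel (kernel.ι (η hF))

theorem isQCoh_Q : Coh.IsQCoh (Q hF) := QCoh.isQCoh_cokernel (isCoh_K hF).1 hF.1 _

include hF in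
theorem ass_of_ma {x : X} (h : Ma F x) : Curv2.IsWeakAssPoint F x :=
  AssPtX.isWeakAssPoint_of_maximal hF.1 h.1 h.2

theorem ass_Q_of_ma {x : X} (h : Ma F x) : Curv2.IsWeakAssPoint (Q hF) x :=
  ((AssPtX.of_shortExact _ (shortExact hF) (isCoh_K hF).1 hF.1 (isQCoh_Q hF) x).1 (ass_of_ma hF h)).resolve_left
    fun hK => notMem_support_K hF (notMem_emb_of_ma h) (AssPtX.mem_support_of_isWeakAssPoint hK)

theorem support_Q : CohB1.support (Q hF) = CohB1.support F := by
  refine Set.Subset.antisymm (fun x hx => ?_) fun x hx => ?_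
  · obtain ⟨V, hV, hxV, -⟩ := exists_isAffineOpen_mem_and_subset (x := x) (U := ⊤) trivial
    obtain ⟨m, hm⟩ := (QCoh.mem_support_iff (isQCoh_Q hF) hV hxV).1 hx
    obtain ⟨s, rfl⟩ := QCoh.app_surjective_of_epi hF.1 (isQCoh_Q hF) (cokernel.π (kernel.ι (η hF))) hV m
    exact (QCoh.mem_support_iff hF.1 hV hxV).2 ⟨s, fun f hf h0 => hm f hf (by
      rw [← Scheme.Modules.Hom.app_smul, h0, map_zero])⟩
  · obtain ⟨η', hη, hηx⟩ := exists_ma hF hx
    exact QCoh.stableUnderSpecialization_support (isQCoh_Q hF) hηx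
      (AssPtX.mem_support_of_isWeakAssPoint (ass_Q_of_ma hF hη))

theorem bijective_π {W : X.Opens} (hW : IsAffineOpen W) (hWg : W ≤ good hF) :
    Function.Bijective ((cokernel.π (kernel.ι (η hF))).app W) := by
  refine ⟨(injective_iff_map_eq_zero ((cokernel.π (kernel.ι (η hF))).app W).hom).2 fun s hs => ?_,
    QCoh.app_surjective_of_epi hF.1 (isQCoh_Q hF) _ hW⟩
  obtain ⟨t, rfl⟩ := QCoh.exists_app_f_eq (shortExact hF) W s hs
  exact AssPtX.eq_zero_of_germ hF.1 _ fun z hz _ => germ_K hF t hz (hWg hz)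

theorem ma_of_ass_Q {x : X} (hx : Curv2.IsWeakAssPoint (Q hF) x) : Ma F x := by
  by_cases hxg : x ∈ good hF
  · obtain ⟨V, hV, hxV, hVg⟩ := exists_isAffineOpen_mem_and_subset (x := x) (U := good hF) hxg
    let p : Γ(F, V) →ₗ[Γ(X, V)] Γ(Q hF, V) :=
      { toFun := (cokernel.π (kernel.ι (η hF))).app V
        map_add' := map_add ((cokernel.π (kernel.ι (η hF))).app V).hom
        map_smul' := fun r s => Scheme.Modules.Hom.app_smul _ r s }
    let e := LinearEquiv.ofBijective p (bijective_π hF hV hVg)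
    have ha : Curv2.IsWeakAssPoint F x := (AssPtX.isWeakAssPoint_iff_sections hF.1 hV hxV).2
      (WeakAss.weakAss_subset_of_injective e.symm.toLinearMap e.symm.injective
        ((AssPtX.isWeakAssPoint_iff_sections (isQCoh_Q hF) hV hxV).1 hx))
    by_contra hn
    exact hxg ⟨x, ha, hn, specializes_rfl⟩
  · exfalso
    obtain ⟨V, hV, hxV, -⟩ := exists_isAffineOpen_mem_and_subset (x := x) (U := ⊤) trivial
    haveI : IsNoetherianRing Γ(X, V) := IsLocallyNoetherian.component_noetherian ⟨_, hV⟩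
    obtain ⟨hpr, t, ht⟩ := isAssociatedPrime_iff.1 (AssPtX.weakAss_subset_associatedPrimes
      ((AssPtX.isWeakAssPoint_iff_sections (isQCoh_Q hF) hV hxV).1 hx))
    rw [AssPtX.colon_bot_singleton] at ht
    obtain ⟨s, rfl⟩ := QCoh.app_surjective_of_epi hF.1 (isQCoh_Q hF) (cokernel.π (kernel.ι (η hF))) hV t
    have hs : (η hF).app V s = 0 := by
      refine (app_eq_zero_iff hF V s).2 fun w hwV hwg => ?_
      have hne : ¬ (hV.primeIdealOf ⟨x, hxV⟩).asIdeal ≤ (hV.primeIdealOf ⟨w, hwV⟩).asIdeal := fun hle =>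
        hxg (((AssPtX.primeIdealOf_le_iff hV hxV hwV).1 hle).mem_open (good hF).2 hwg)
      obtain ⟨f, hfx, hfw⟩ := SetLike.not_le_iff_exists.1 hne
      have h0 : (cokernel.π (kernel.ι (η hF))).app V (f • s) = 0 := by
        rw [Scheme.Modules.Hom.app_smul]
        exact WeakAss.mem_annEl.1 (ht.le hfx)
      obtain ⟨a, ha⟩ := QCoh.exists_app_f_eq (shortExact hF) V _ h0
      obtain ⟨g, hwg', hg⟩ := (QCoh.germ_eq_zero_iff hF.1 hV hwV (f • s)).1 (ha ▸ germ_K hF a hwV hwg)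
      refine (QCoh.germ_eq_zero_iff hF.1 hV hwV s).2 ⟨g * f, ?_, by rw [mul_smul, hg]⟩
      rw [X.basicOpen_mul]
      exact ⟨hwg', (QCoh.mem_basicOpen_iff_notMem hV hwV f).2 hfw⟩
    obtain ⟨a, rfl⟩ := QCoh.exists_kernel_lift (η hF) V s hs
    have h1 : (1 : Γ(X, V)) ∈ (hV.primeIdealOf ⟨x, hxV⟩).asIdeal := ht.ge (WeakAss.mem_annEl.2 (by
      rw [one_smul]; exact congr(($(cokernel.condition (kernel.ι (η hF)))).app V a)))
    exact hpr.ne_top ((Ideal.eq_top_iff_one _).2 h1)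

theorem le_K (K' : X.Modules) (i : K' ⟶ F) [Mono i] (hK' : Coh.IsCoh K')
    (hnd : ∀ U : X.Opens, (U : Set X) ∩ CohB1.support F ⊆ CohB1.support K' → (U : Set X) ∩ CohB1.support F = ∅) :
    i ≫ η hF = 0 := by
  have hno : ∀ y ∈ good hF, ¬ Curv2.IsWeakAssPoint K' y := by
    intro y hyg hy
    have hS : (ShortComplex.mk i (cokernel.π i) (cokernel.condition i)).ShortExact :=
      { exact := ShortComplex.exact_cokernel _, mono_f := inferInstance, epi_g := inferInstance }
    have ha : Curv2.IsWeakAssPoint F y :=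
      (AssPtX.of_shortExact _ hS hK'.1 hF.1 (QCoh.isQCoh_cokernel hK'.1 hF.1 i) y).2 hy
    have hma : Ma F y := by
      by_contra hn
      exact hyg ⟨y, ha, hn, specializes_rfl⟩
    obtain ⟨V, hV, hyV, -⟩ := exists_isAffineOpen_mem_and_subset (x := y) (U := ⊤) trivial
    let S := {z : X | z ∈ V ∧ Ma F z ∧ z ≠ y}
    have hS' : S.Finite := (AssPtX.finite_assPoints hF hV.isCompact).subset
      fun z hz => ⟨hz.1, AssPtX.isAssPoint_iff.2 (ass_of_ma hF hz.2.1)⟩
    let W : X.Opens := ⟨(V : Set X) \ ⋃ z ∈ S, closure {z}, V.2.sdiff (hS'.isClosed_biUnion fun z _ => isClosed_closure)⟩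
    have hyW : y ∈ W := ⟨hyV, fun h => by
      obtain ⟨z, hz, hzy⟩ := Set.mem_iUnion₂.1 h
      exact hz.2.2 (hma.2 z hz.2.1.1 (specializes_iff_mem_closure.2 hzy))⟩
    have hsub : (W : Set X) ∩ CohB1.support F ⊆ CohB1.support K' := by
      rintro w ⟨⟨hwV, hw⟩, hws⟩
      obtain ⟨z, hz, hzw⟩ := exists_ma hF hws
      have hzy : z = y := by
        by_contra hne
        exact hw (Set.mem_iUnion₂.2 ⟨z, ⟨hzw.mem_open V.2 hwV, hz, hne⟩, hzw.mem_closure⟩)
      subst hzy
      exact QCoh.stableUnderSpecialization_support hK'.1 hzw (AssPtX.mem_support_of_isWeakAssPoint hy)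
    exact Set.eq_empty_iff_forall_notMem.1 (hnd W hsub) y ⟨hyW, hma.1⟩
  refine Scheme.Modules.hom_ext _ _ fun V => ?_
  ext s
  show (η hF).app V (i.app V s) = 0
  refine (app_eq_zero_iff hF V _).2 fun y hy hyg => ?_
  have h0 : K'.presheaf.map (homOfLE (inf_le_left : V ⊓ good hF ≤ V)).op s = 0 :=
    AssPtX.eq_zero_of_germ hK'.1 _ fun z hz hz' => absurd hz' (hno z hz.2)
  rw [← F.presheaf.germ_res_apply (homOfLE (inf_le_left : V ⊓ good hF ≤ V)) y ⟨hy, hyg⟩,
    ← QCoh.map_app_comm, h0, map_zero, map_zero]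

theorem dense_good : Dense (good hF : Set X) := by
  refine dense_iff_inter_open.2 fun O hO ⟨y, hy⟩ => ?_
  by_contra hne
  have hye : y ∈ emb F := by
    by_contra h
    exact hne ⟨y, hy, h⟩
  obtain ⟨z, hz, -, hzy⟩ := hye
  obtain ⟨η', hη, hηy⟩ := exists_ma hF (QCoh.stableUnderSpecialization_support hF.1 hzy (AssPtX.mem_support_of_isWeakAssPoint hz))
  exact hne ⟨η', hηy.mem_open hO hy, notMem_emb_of_ma hη⟩

theorem support_subset_closure : CohB1.support F ⊆ closure ((good hF : Set X) ∩ CohB1.support F) := by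
  intro y hy
  obtain ⟨η', hη, hηy⟩ := exists_ma hF hy
  exact closure_mono (Set.singleton_subset_iff.2 (show η' ∈ (good hF : Set X) ∩ CohB1.support F from
    ⟨notMem_emb_of_ma hη, hη.1⟩)) hηy.mem_closure

theorem isIso_restrict : IsIso ((Scheme.Modules.restrictFunctor (good hF).ι).map (cokernel.π (kernel.ι (η hF)))) := by
  refine QCoh.isIso_of_isBasis _ (good hF).toScheme.isBasis_affineOpens fun W hW => ?_
  refine bijective_π hF (hW.image_of_isOpenImmersion (good hF).ι) ?_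
  exact ((good hF).ι.image_le_opensRange W).trans (good hF).opensRange_ι.le

theorem exists_max (hF : Coh.IsCoh F) :
    ∃ K : Subobject F, Coh.IsCoh (K : X.Modules) ∧
      (∀ U : X.Opens, (U : Set ↥X) ∩ CohB1.support F ⊆ CohB1.support (K : X.Modules) → (U : Set ↥X) ∩ CohB1.support F = ∅) ∧
      (∀ K' : Subobject F, Coh.IsCoh (K' : X.Modules) →
        (∀ U : X.Opens, (U : Set ↥X) ∩ CohB1.support F ⊆ CohB1.support (K' : X.Modules) → (U : Set ↥X) ∩ CohB1.support F = ∅) →
        K' ≤ K) ∧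
      CohB1.support (cokernel K.arrow) = CohB1.support F ∧
      (∀ x : ↥X, Curv2.IsAssPoint (cokernel K.arrow) x → ∀ y : ↥X, Curv2.IsAssPoint (cokernel K.arrow) y → y ⤳ x → y = x) ∧
      ∃ U : X.Opens, Dense (U : Set ↥X) ∧ CohB1.support F ⊆ closure ((U : Set ↥X) ∩ CohB1.support F) ∧
        IsIso ((Scheme.Modules.restrictFunctor U.ι).map (cokernel.π K.arrow)) := by
  let S : Subobject F := Subobject.mk (kernel.ι (η hF))
  let e : (S : X.Modules) ≅ K hF := Subobject.underlyingIso (kernel.ι (η hF))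
  have he : S.arrow = e.hom ≫ kernel.ι (η hF) := (Subobject.underlyingIso_hom_comp_eq_mk _).symm
  haveI : IsIso e.hom := inferInstance
  let c : cokernel S.arrow ≅ Q hF := cokernelIsoOfEq he ≪≫ cokernelEpiComp e.hom _
  have hsuppe : CohB1.support (S : X.Modules) = CohB1.support (K hF) := by
    ext x
    exact not_congr (((TopCat.Presheaf.stalkFunctor AddCommGrpCat.{u} x).mapIso
      ((Scheme.Modules.toPresheaf X).mapIso e)).addCommGroupIsoToAddEquiv.toEquiv.subsingleton_congr)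
  have hQ : Coh.IsQCoh (cokernel S.arrow) := (QCoh.isQCoh_iff_iso c).2 (isQCoh_Q hF)
  have hass : ∀ x, Curv2.IsWeakAssPoint (cokernel S.arrow) x → Curv2.IsWeakAssPoint (Q hF) x := fun x hx => by
    obtain ⟨V, hV, hxV, -⟩ := exists_isAffineOpen_mem_and_subset (x := x) (U := ⊤) trivial
    let l : Γ(cokernel S.arrow, V) →ₗ[Γ(X, V)] Γ(Q hF, V) :=
      { toFun := c.hom.app V, map_add' := map_add (c.hom.app V).hom, map_smul' := fun r s => Scheme.Modules.Hom.app_smul _ r s }
    exact (AssPtX.isWeakAssPoint_iff_sections (isQCoh_Q hF) hV hxV).2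
      (WeakAss.weakAss_subset_of_injective l (QCoh.app_injective c.hom V)
        ((AssPtX.isWeakAssPoint_iff_sections hQ hV hxV).1 hx))
  refine ⟨S, QCoh.isCoh_of_mono e.hom (isCoh_K hF) ((QCoh.isQCoh_iff_iso e).2 (isCoh_K hF).1), ?_, ?_, ?_, ?_,
    good hF, dense_good hF, support_subset_closure hF, ?_⟩
  · rw [hsuppe]
    exact nowhereDense_K hF
  · intro K' hK' hnd
    exact Subobject.le_mk_of_comm (kernel.lift _ _ (le_K hF _ K'.arrow hK' hnd)) (kernel.lift_ι _ _ _)
  · rw [← support_Q hF]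
    ext x
    exact not_congr (((TopCat.Presheaf.stalkFunctor AddCommGrpCat.{u} x).mapIso
      ((Scheme.Modules.toPresheaf X).mapIso c)).addCommGroupIsoToAddEquiv.toEquiv.subsingleton_congr)
  · intro x hx y hy hyx
    exact (ma_of_ass_Q hF (hass x (AssPtX.isAssPoint_iff.1 hx))).2 y
      (ma_of_ass_Q hF (hass y (AssPtX.isAssPoint_iff.1 hy))).1 hyx
  · have h : cokernel.π S.arrow = cokernel.π (kernel.ι (η hF)) ≫ c.inv := by
      rw [← cancel_mono c.hom, Category.assoc, c.inv_hom_id, Category.comp_id]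
      simp [c]
    haveI := isIso_restrict hF
    rw [h, Functor.map_comp]
    infer_instance

end Groth.Agent.MaxND16
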